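import Mathlib.RingTheory.AdicCompletion.Algebra

/-!
# Completions of algebras with the same truncations
-/

set_option autoImplicit false
set_option linter.all false
set_option backward.isDefEq.respectTransparency false

universe u

namespace GrothLib.CplNbhd10

variable {A B P : Type u} [CommRing A] [CommRing B] [CommRing P] [Algebra A B] [Algebra A P]

theorem factor_evalₐ (K : Ideal B) {m n : ℕ} (h : m ≤ n) (x : AdicCompletion K B) :
    Ideal.Quotient.factor (Ideal.pow_le_pow_right h) (AdicCompletion.evalₐ K n x) = AdicCompletion.evalₐ K m x := by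
  obtain ⟨x, rfl⟩ := AdicCompletion.mk_surjective K B x
  rw [AdicCompletion.evalₐ_mk, AdicCompletion.evalₐ_mk, Ideal.Quotient.factor_mk]
  exact AdicCompletion.Ideal.mk_eq_mk (I := K) h x

theorem nonempty_algEquiv (K : Ideal B) (L : Ideal P) (e : ∀ n, (B ⧸ K ^ n) ≃ₐ[A] (P ⧸ L ^ n))
    (he : ∀ {m n : ℕ} (h : m ≤ n) (x : B ⧸ K ^ n),
      Ideal.Quotient.factor (Ideal.pow_le_pow_right h) (e n x) =
        e m (Ideal.Quotient.factor (Ideal.pow_le_pow_right h) x)) :
    Nonempty (AdicCompletion K B ≃ₐ[A] AdicCompletion L P) := by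
  let F : AdicCompletion K B →ₐ[A] AdicCompletion L P :=
    AdicCompletion.liftAlgHom L (fun n => (e n).toAlgHom.comp ((AdicCompletion.evalₐ K n).restrictScalars A))
      fun {m n} h => AlgHom.ext fun x => (he h _).trans (congrArg (e m) (factor_evalₐ K h x))
  let G : AdicCompletion L P →ₐ[A] AdicCompletion K B :=
    AdicCompletion.liftAlgHom K (fun n => (e n).symm.toAlgHom.comp ((AdicCompletion.evalₐ L n).restrictScalars A))
      fun {m n} h => AlgHom.ext fun x => (e m).injective (by
        show e m (Ideal.Quotient.factor (Ideal.pow_le_pow_right h) ((e n).symm _)) = e m ((e m).symm _)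
        rw [← he h, AlgEquiv.apply_symm_apply, AlgEquiv.apply_symm_apply]
        exact factor_evalₐ L h x)
  exact ⟨AlgEquiv.ofAlgHom F G
    (AlgHom.ext fun x => AdicCompletion.ext_evalₐ fun n => by simp [F, G])
    (AlgHom.ext fun x => AdicCompletion.ext_evalₐ fun n => by simp [F, G])⟩

end GrothLib.CplNbhd10
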